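import Cfsg.Agent.H526.Van.Tool
import Cfsg.Agent.H53.HC.ExcIM
import Cfsg.Agent.H62.PPChev
import Cfsg.Agent.S1032

/-!
# T1 for the Chevalley groups (helper526)

* `tor c s` : the torus element `∏ h_i(s^(c i))`; it acts on `X_ρ` by `s ^ ∑ c i A_{iρ}`;
* `card_VJ_eq` : `|V_{ {i}ᶜ }| = q ^ num D i`;
* `vz_tor` : zeros at `tor c s`.
-/

set_option autoImplicit false
set_option linter.unusedSectionVars false

open Cfsg

namespace Cfsg.Agent.H526.Van

open Cfsg.Lie Cfsg.Agent.ChevalleyStructure Cfsg.Agent.ChevalleyStructure.Elts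
  Cfsg.Agent.ChevalleyStructure.RootVec Cfsg.Agent.ChevalleyStructure.RootVecTab
  Cfsg.Agent.ChevalleyStructure.NPerm Cfsg.Agent.ChevalleyStructure.CoxeterGeomTypes
open Cfsg.Agent.Nodes Cfsg.Agent.Nodes.RGDChev Cfsg.Agent.H35.ExcIdx Cfsg.Agent.H62.PPChev
open CoxeterSystem Cfsg.Agent.ChevalleyStructure.CoxeterGeom Cfsg.Agent.Tits.Roots Cfsg.Agent.Tits.Core
  Cfsg.Agent.Tits.Exchange Cfsg.Agent.Nodes.Reps Cfsg.Agent.Nodes.BNOf Cfsg.Agent.Nodes.StabComb
  Cfsg.Agent.Nodes.Bruhat Cfsg.Agent.Nodes.OppDec Cfsg.Agent.Nodes.LeviDec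

universe u

variable {D : ChevalleyDatum} {l : ℕ} {M : CoxeterMatrix (Fin l)} (hp : IsType D l M) {K : Type u} [Field K]

theorem hG_mul_xG {i : ℕ} (hi : i < D.rank) {ρ : ℕ} (hρ : ρ < D.nroots) (hD : InList D) (a : Kˣ) (u : K) :
    hG hD (D.simple i) (a : K) * xG hD ρ u = xG hD ρ (((a ^ D.cartan i ρ : Kˣ) : K) * u) * hG hD (D.simple i) (a : K) := by
  apply Units.ext
  rw [Units.val_mul, Units.val_mul, coe_hG, coe_xG, coe_xG]
  have h1 := Cfsg.Agent.S1032.result (F := K) D hD i ρ hi hρ (a : K) a.ne_zero u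
  rw [h1, Units.val_zpow_eq_zpow_val]

/-- `∏ h_i(s^(c i))` -/
def tor (hD : InList D) (c : ℕ → ℤ) (s : Kˣ) : GL D.Idx K :=
  ((List.range D.rank).map fun i => hG hD (D.simple i) ((s ^ c i : Kˣ) : K)).prod

/-- the exponent of `tor c s` on the root group of `ρ` -/
def expo (D : ChevalleyDatum) (c : ℕ → ℤ) (ρ : ℕ) : ℤ := ((List.range D.rank).map fun i => c i * D.cartan i ρ).sum

/-- the same for a list of nodes -/
def torL (hD : InList D) (L : List ℕ) (c : ℕ → ℤ) (s : Kˣ) : GL D.Idx K :=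
  (L.map fun i => hG hD (D.simple i) ((s ^ c i : Kˣ) : K)).prod

theorem torL_mul_xG (hD : InList D) (c : ℕ → ℤ) (s : Kˣ) {ρ : ℕ} (hρ : ρ < D.nroots) :
    ∀ L : List ℕ, (∀ i ∈ L, i < D.rank) → ∀ u : K,
      torL hD L c s * xG hD ρ u =
      xG hD ρ (((s ^ (L.map fun i => c i * D.cartan i ρ).sum : Kˣ) : K) * u) * torL hD L c s := by
  unfold torL
  intro L
  induction L with
  | nil => intro _ u; simp
  | cons i L ih =>
    intro hL u
    rw [List.map_cons, List.prod_cons, List.map_cons, List.sum_cons, mul_assoc,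
      ih (fun j hj => hL j (List.mem_cons_of_mem _ hj)) u, ← mul_assoc,
      hG_mul_xG (hL i List.mem_cons_self) hρ hD (s ^ c i) _, mul_assoc]
    congr 2
    rw [← zpow_mul, zpow_add, Units.val_mul, mul_assoc]

include hp in
theorem torL_mem_diagonal {L : List ℕ} (hL : ∀ i ∈ L, i < D.rank) (c : ℕ → ℤ) (s : Kˣ) :
    torL hp.inList L c s ∈ D.diagonalSubgroup K := by
  unfold torL
  refine Subgroup.list_prod_mem _ fun x hx => ?_
  obtain ⟨i, hi, rfl⟩ := List.mem_map.1 hx
  exact hG_mem_diagonal hp.inList (simple_lt hp.inList (hL i hi)) (Units.ne_zero _)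

theorem tor_mul_xG (hD : InList D) (c : ℕ → ℤ) (s : Kˣ) {ρ : ℕ} (hρ : ρ < D.nroots) (u : K) :
    tor hD c s * xG hD ρ u = xG hD ρ (((s ^ expo D c ρ : Kˣ) : K) * u) * tor hD c s :=
  torL_mul_xG hD c s hρ (List.range D.rank) (fun i hi => List.mem_range.1 hi) u

include hp in
theorem tor_mem_diagonal (c : ℕ → ℤ) (s : Kˣ) : tor hp.inList c s ∈ D.diagonalSubgroup K := by
  unfold tor
  refine Subgroup.list_prod_mem _ fun x hx => ?_
  obtain ⟨i, hi, rfl⟩ := List.mem_map.1 hx
  exact hG_mem_diagonal hp.inList (simple_lt hp.inList (List.mem_range.1 hi)) (Units.ne_zero _)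

/-- the element of the Chevalley group -/
def torG (c : ℕ → ℤ) (s : Kˣ) : ↥(D.group K) :=
  ⟨tor hp.inList c s, diagonal_le_group hp.inList K (tor_mem_diagonal hp c s)⟩

theorem torG_mem (c : ℕ → ℤ) (s : Kˣ) : torG hp c s ∈ TT D K := by
  rw [Subgroup.mem_subgroupOf]
  exact tor_mem_diagonal hp c s

/-- powers of `tor c s` centralise the group as soon as the power of `s` is trivial -/
theorem torL_pow_comm (hD : InList D) {L : List ℕ} (hL : ∀ i ∈ L, i < D.rank) (c : ℕ → ℤ) (s : Kˣ) {m : ℕ}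
    (hm : s ^ m = 1) : ∀ g ∈ D.group K, g * torL hD L c s ^ m = torL hD L c s ^ m * g := by
  have h1 : ∀ (k : ℕ) {ρ : ℕ} (_ : ρ < D.nroots) (u : K),
      torL hD L c s ^ k * xG hD ρ u =
        xG hD ρ (((s ^ (L.map fun i => c i * D.cartan i ρ).sum : Kˣ) : K) ^ k * u) * torL hD L c s ^ k := by
    intro k ρ hρ
    induction k with
    | zero => intro u; simp
    | succ k ih =>
      intro u
      rw [pow_succ, mul_assoc, torL_mul_xG hD c s hρ L hL u, ← mul_assoc, ih, mul_assoc, ← mul_assoc _ _ u, ← pow_succ]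
  have h2 : D.group K ≤ Subgroup.centralizer {torL hD L c s ^ m} := by
    rw [group_le_iff hD]
    intro ρ hρ u
    rw [Subgroup.mem_centralizer_iff]
    rintro y rfl
    rw [h1 m hρ u]
    congr 2
    have h3 : ((s ^ (L.map fun i => c i * D.cartan i ρ).sum : Kˣ) : K) ^ m = 1 := by
      rw [← Units.val_pow_eq_pow_val, ← zpow_natCast, zpow_comm, zpow_natCast, hm, one_zpow, Units.val_one]
    rw [h3, one_mul]
  intro g hg
  exact ((Subgroup.mem_centralizer_iff.1 (h2 hg)) _ rfl).symm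

theorem torG_pow_center (c : ℕ → ℤ) (s : Kˣ) {m : ℕ} (hm : s ^ m = 1) :
    torG hp c s ^ m ∈ Subgroup.center ↥(D.group K) := by
  rw [Subgroup.mem_center_iff]
  intro g
  apply Subtype.ext
  exact torL_pow_comm hp.inList (fun i hi => List.mem_range.1 hi) c s hm g.1 g.2

include hp in
/-- the order of `V_i` -/
theorem card_VJ_eq [Fintype K] {W : Type*} [Group W] [Finite W] (cs : CoxeterSystem M W) (r : ℕ) [Fact r.Prime] [CharP K r]
    (i : Fin l) : Nat.card (VJ cs hp.isCartan (XX D l K) {i}ᶜ) = Fintype.card K ^ num D i := by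
  classical
  have R := rgd (K := K) hp cs r
  have hfin : (NotJ cs hp.isCartan {i}ᶜ).Finite :=
    (RGD.finite_roots (cs := cs) (h := hp.isCartan)).subset fun _ hx => hx.1
  set s : Finset (Fin l → ℤ) := hfin.toFinset with hs
  have hsc : (s : Set (Fin l → ℤ)) = NotJ cs hp.isCartan {i}ᶜ := hfin.coe_toFinset
  have h3 : Nat.card (VJ cs hp.isCartan (XX D l K) {i}ᶜ) = ∏ x ∈ s, Nat.card ↥(XX D l K x) := by
    have := Cfsg.Agent.Nodes.CardSup.card_sup R (s := s) (by rw [hsc]; exact fun x hx => ⟨hx.1, hx.2.1⟩)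
      (by rw [hsc]; exact Cfsg.Agent.H62.PPIdx.closed_NotJ _)
    rw [← this, hsc]
    rfl
  have h4 : ∏ x ∈ s, Nat.card ↥(XX D l K x) = Fintype.card K ^ s.card := by
    rw [← Finset.prod_const]
    refine Finset.prod_congr rfl fun x hx => card_X hp cs ?_
    have hx' : x ∈ NotJ cs hp.isCartan {i}ᶜ := by rw [← hsc]; exact hx
    exact hx'.1
  rw [h3, h4]
  congr 1
  have h5 : num D i = (((List.range D.nroots).filter fun r => 0 < rt D r i).toFinset).card := by
    rw [List.toFinset_card_of_nodup (List.nodup_range.filter _)]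
    rfl
  rw [h5]
  symm
  refine Finset.card_bij (fun r _ => vec D l r) ?_ ?_ ?_
  · intro r hr
    rw [List.mem_toFinset, List.mem_filter, List.mem_range] at hr
    have hr2 : 0 < rt D r i := by simpa using hr.2
    rw [← Finset.mem_coe, hsc]
    have h6 := isRoot_vec hp cs hr.1
    exact ⟨h6, nonneg_of_pos_apply h6 (k := i) hr2, i, by simp, hr2⟩
  · intro a ha b hb e
    rw [List.mem_toFinset, List.mem_filter, List.mem_range] at ha hb
    exact vec_inj hp ha.1 hb.1 e
  · intro x hx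
    rw [← Finset.mem_coe, hsc] at hx
    obtain ⟨h6, -, k, hk, hk0⟩ := hx
    obtain ⟨ρ, hρ, rfl⟩ := (isRoot_iff hp cs x).1 h6
    have hki : k = i := by
      by_contra hne
      exact hk (by simpa using hne)
    subst hki
    refine ⟨ρ, ?_, rfl⟩
    rw [List.mem_toFinset, List.mem_filter, List.mem_range]
    exact ⟨hρ, by simpa [vec_apply] using hk0⟩

/-- the condition on the exponents: all exponents on `V_j` are 1 or 2 -/
def Chk (D : ChevalleyDatum) (c : List ℤ) (j : ℕ) : Bool :=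
  (List.range D.nroots).all fun ρ => decide (0 < rt D ρ j → expo D (fun i => c.getD i 0) ρ = 1 ∨
    expo D (fun i => c.getD i 0) ρ = 2)

/-- **T1 for the torus elements of a Chevalley group.** -/
theorem vz_tor [Fintype K] (r : ℕ) [Fact r.Prime] [CharP K r] (hW : Finite M.Group) {j k : Fin l}
    (hK : H53.HC.In hp.isCartan (XX D l K) {k}ᶜ) (hn : num D j ≠ num D k) {c : List ℤ} (hc : Chk D c j = true)
    {s : Kˣ} (hs : s ≠ 1) (hs2 : s ^ 2 ≠ 1) : H713.VZ ↥(D.group K) (torG hp (fun i => c.getD i 0) s) := by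
  classical
  have : Finite ↥(D.group K) := H53.HC.ExcRows.finite_group (K := K) D
  have R := rgd (K := K) hp M.toCoxeterSystem r
  refine vz_of_torus (K := {k}ᶜ) (J := {j}ᶜ) R (GG_eq_top hp K M.toCoxeterSystem) hK (Or.inr ⟨?_, ?_⟩)
    (torG_mem hp _ s) ?_
  · rw [Set.ncard_compl, Set.ncard_compl, Set.ncard_singleton, Set.ncard_singleton]
  · have h1 := card_VJ_eq hp (K := K) M.toCoxeterSystem r j
    have h2 := card_VJ_eq hp (K := K) M.toCoxeterSystem r k
    rw [h1, h2]
    intro h3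
    exact hn (Nat.pow_right_injective (Fintype.one_lt_card (α := K)) h3)
  · rintro x ⟨hx, -, i, hi, hi0⟩ u hu hcu
    obtain ⟨ρ, hρ, rfl⟩ := (isRoot_iff hp M.toCoxeterSystem x).1 hx
    have hij : i = j := by
      by_contra hne
      exact hi (by simpa using hne)
    subst hij
    have hu' : (u : GL D.Idx K) ∈ D.rootSubgroup K ρ := by
      rw [← XV_vec hp K hρ]
      exact hu
    obtain ⟨a, ha⟩ := (mem_rootSubgroup_iff hp.inList ρ _).1 hu'
    have h1 : xG hp.inList ρ (((s ^ expo D (fun i => c.getD i 0) ρ : Kˣ) : K) * a) = xG hp.inList ρ a := by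
      have h2 := tor_mul_xG hp.inList (fun i => c.getD i 0) s hρ a
      have h3 : tor hp.inList (fun i => c.getD i 0) s * (u : GL D.Idx K) =
          (u : GL D.Idx K) * tor hp.inList (fun i => c.getD i 0) s := congrArg Subtype.val hcu
      rw [ha, h2] at h3
      exact mul_right_cancel h3
    have h4 := xG_injective hp.inList hρ h1
    have h5 : (((s ^ expo D (fun i => c.getD i 0) ρ : Kˣ) : K) - 1) * a = 0 := by linear_combination h4
    have h6 : s ^ expo D (fun i => c.getD i 0) ρ ≠ 1 := by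
      have h7 := List.all_eq_true.1 hc ρ (List.mem_range.2 hρ)
      rcases of_decide_eq_true h7 (by simpa [vec_apply] using hi0) with h8 | h8
      · rw [h8, zpow_one]; exact hs
      · rw [h8]
        intro h9
        exact hs2 (by exact_mod_cast h9)
    rcases mul_eq_zero.1 h5 with h7 | h7
    · exfalso
      apply h6
      apply Units.ext
      rw [Units.val_one]
      exact sub_eq_zero.1 h7
    · subst h7
      apply Subtype.ext
      rw [ha, xG_zero]
      rfl

/-- elements of the torus of order a power of `p` -/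
theorem exists_unit_order {F : Type*} [Field F] [Fintype F] {p : ℕ} [hp : Fact p.Prime] (hd : p ∣ Fintype.card F - 1) :
    ∃ s : Fˣ, orderOf s = p := by
  classical
  have hc : p ∣ Fintype.card Fˣ := by
    rw [Fintype.card_units]; exact hd
  exact exists_prime_orderOf_dvd_card p hc

theorem exists_unit_four {F : Type*} [Field F] [Fintype F] (hd : 4 ∣ Fintype.card F - 1) : ∃ s : Fˣ, orderOf s = 4 := by
  classical
  obtain ⟨g, hg⟩ := IsCyclic.exists_generator (α := Fˣ)
  have h1 : orderOf g = Fintype.card F - 1 := by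
    rw [orderOf_eq_card_of_forall_mem_zpowers hg, Nat.card_eq_fintype_card, Fintype.card_units]
  obtain ⟨m, hm⟩ := hd
  have hpos : 0 < Fintype.card F - 1 := by
    have := Fintype.one_lt_card (α := F)
    omega
  refine ⟨g ^ m, ?_⟩
  have hm0 : m ≠ 0 := by
    rintro rfl
    omega
  rw [orderOf_pow_of_dvd hm0 (by rw [h1, hm]; exact Dvd.intro_left 4 rfl), h1, hm]
  exact Nat.mul_div_cancel _ (Nat.pos_of_ne_zero hm0)

open Cfsg.Agent.H620.PNorm

theorem eq_one_of_center {G : Type*} [Group G] [hs : IsSimpleGroup G] (hna : ∃ a b : G, a * b ≠ b * a) {z : G}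
    (h1 : z ∈ Subgroup.center G) : z = 1 := by
  have h2 : Subgroup.center G = ⊥ := by
    rcases (inferInstance : (Subgroup.center G).Normal).eq_bot_or_eq_top with h3 | h3
    · exact h3
    · exfalso
      obtain ⟨a, b, hab⟩ := hna
      have h4 : b ∈ Subgroup.center G := by rw [h3]; trivial
      exact hab (Subgroup.mem_center_iff.1 h4 a)
  rw [h2, Subgroup.mem_bot] at h1
  exact h1

/-- the order of the torus element -/
theorem orderOf_torG [hs : IsSimpleGroup ↥(D.group K)] (hna : ∃ a b : ↥(D.group K), a * b ≠ b * a) (c : ℕ → ℤ) (s : Kˣ)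
    {m : ℕ} (hm : s ^ m = 1) : torG hp c s ^ m = 1 := eq_one_of_center hna (torG_pow_center hp c s hm)

theorem vOrdP_of_pow {G : Type*} [Group G] [Finite G] {p : ℕ} [hpp : Fact p.Prime] {x : G} (hx : x ^ p = 1)
    (hvz : H713.VZ G x) : VOrdP p G := by
  refine ⟨_, orderOf_eq_prime hx ?_, hvz⟩
  intro h3
  rw [h3] at hvz
  obtain ⟨θ, hθ⟩ := hvz
  have h4 := hθ 1
  exact (Cfsg.Agent.Characters.Core.isIrr_apply_one_ne_zero θ.2) (by simpa using h4)

theorem vPow_two_of_pow {G : Type*} [Group G] {x : G} (hx : x ^ 4 = 1) (hvz : H713.VZ G x) : VPow 2 G := by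
  refine ⟨_, ?_, hvz⟩
  have h3 : orderOf x ∣ 2 ^ 2 := orderOf_dvd_of_pow_eq_one (by rw [show 2 ^ 2 = 4 by norm_num, hx])
  obtain ⟨k, -, hk⟩ := (Nat.dvd_prime_pow Nat.prime_two).1 h3
  exact ⟨k, hk⟩

include hp in
theorem exists_ne {j : Fin l} {c : List ℤ} (hc : Chk D c j = true) {s : Kˣ} (hs : s ≠ 1) (hs2 : s ^ 2 ≠ 1) :
    ∃ a b : ↥(D.group K), a * b ≠ b * a := by
  have hρ := simple_lt hp.inList (lt_rank hp j)
  refine ⟨torG hp (fun i => c.getD i 0) s, ⟨xG hp.inList (D.simple j) 1, xG_mem_group _ _ _⟩, fun h0 => ?_⟩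
  have h1 : xG hp.inList (D.simple j) (((s ^ expo D (fun i => c.getD i 0) (D.simple j) : Kˣ) : K) * 1) =
      xG hp.inList (D.simple j) 1 := by
    have h2 := tor_mul_xG hp.inList (fun i => c.getD i 0) s hρ 1
    have h3 : tor hp.inList (fun i => c.getD i 0) s * xG hp.inList (D.simple j) 1 =
        xG hp.inList (D.simple j) 1 * tor hp.inList (fun i => c.getD i 0) s := congrArg Subtype.val h0
    rw [h2] at h3
    exact mul_right_cancel h3
  have h4 := xG_injective hp.inList hρ h1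
  rw [mul_one] at h4
  have h7 := List.all_eq_true.1 hc _ (List.mem_range.2 hρ)
  have h8 : 0 < rt D (D.simple j) j := by
    have h9 := congrFun (vec_simple hp j) j
    rw [vec_apply, sr_self] at h9
    rw [h9]
    norm_num
  rcases of_decide_eq_true h7 h8 with h9 | h9
  · rw [h9, zpow_one] at h4
    exact hs (Units.ext h4)
  · rw [h9] at h4
    have h10 : s ^ (2 : ℤ) = 1 := Units.ext h4
    exact hs2 (by exact_mod_cast h10)

theorem unit_ne {p : ℕ} [hpp : Fact p.Prime] (h2 : p ≠ 2) {F : Type*} [Monoid F] {s : F} (hsp : orderOf s = p) :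
    s ≠ 1 ∧ s ^ 2 ≠ 1 := by
  constructor
  · rintro rfl
    rw [orderOf_one] at hsp
    exact hpp.out.one_lt.ne hsp
  · intro h3
    have h4 := orderOf_dvd_of_pow_eq_one h3
    rw [hsp] at h4
    exact h2 ((Nat.prime_dvd_prime_iff_eq hpp.out Nat.prime_two).1 h4)

theorem unit_ne_four {F : Type*} [Monoid F] {s : F} (hsp : orderOf s = 4) : s ≠ 1 ∧ s ^ 2 ≠ 1 := by
  constructor
  · rintro rfl
    rw [orderOf_one] at hsp
    omega
  · intro h3
    have h4 := orderOf_dvd_of_pow_eq_one h3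
    rw [hsp] at h4
    omega

/-- **`p` odd, `p ∣ q - 1`.** -/
theorem vOrdP_tor [Fintype K] (r : ℕ) [Fact r.Prime] [CharP K r] (hW : Finite M.Group) [hs : IsSimpleGroup ↥(D.group K)]
    {j k : Fin l} (hK : H53.HC.In hp.isCartan (XX D l K) {k}ᶜ)
    (hn : num D j ≠ num D k) {c : List ℤ} (hc : Chk D c j = true) {p : ℕ} [hpp : Fact p.Prime] (h2 : p ≠ 2)
    (hd : p ∣ Fintype.card K - 1) : VOrdP p ↥(D.group K) := by
  have : Finite ↥(D.group K) := H53.HC.ExcRows.finite_group (K := K) D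
  obtain ⟨s, hsp⟩ := exists_unit_order hd
  obtain ⟨hs1, hs2⟩ := unit_ne h2 hsp
  exact vOrdP_of_pow (orderOf_torG hp (exists_ne hp hc hs1 hs2) _ s (by rw [← hsp, pow_orderOf_eq_one]))
    (vz_tor hp r hW hK hn hc hs1 hs2)

/-- **`p = 2`, `4 ∣ q - 1`.** -/
theorem vPow_tor [Fintype K] (r : ℕ) [Fact r.Prime] [CharP K r] (hW : Finite M.Group) [hs : IsSimpleGroup ↥(D.group K)]
    {j k : Fin l} (hK : H53.HC.In hp.isCartan (XX D l K) {k}ᶜ)
    (hn : num D j ≠ num D k) {c : List ℤ} (hc : Chk D c j = true) (hd : 4 ∣ Fintype.card K - 1) :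
    VPow 2 ↥(D.group K) := by
  obtain ⟨s, hsp⟩ := exists_unit_four hd
  obtain ⟨hs1, hs2⟩ := unit_ne_four hsp
  exact vPow_two_of_pow (orderOf_torG hp (exists_ne hp hc hs1 hs2) _ s (by rw [← hsp, pow_orderOf_eq_one]))
    (vz_tor hp r hW hK hn hc hs1 hs2)

end Cfsg.Agent.H526.Van
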