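import Cfsg.Agent.H246.Dl.KType
import Cfsg.Agent.H720.PV.Regular
import Cfsg.Agent.H620.PNorm
import Cfsg.Agent.Nodes.CardSup
import Cfsg.Agent.H62.PPIdx

/-!
# Tool T1 for S4555 and S4559: zeros by fixed points on unipotent radicals (helper526)

* `zero_of_not_hasFix` : an irreducible character without `V`-fixed vectors vanishes at the elements normalising `V`
  without fixed points on `V`;
* `cent_Sup`, `cent_VJ` : torus elements without fixed points on the root groups of a closed set of positive roots have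
  no fixed points on the group they generate;
* `vz_of_HT` : `χ` of Harish-Chandra type `K`, `x ∈ P_J` without fixed points on `V_J`; if `|J| < |K|`, or `|J| = |K|` and
  `|V_J| ≠ |V_K|`, then `x` is a `VZ` element (no knowledge about the automorphisms is needed);
* `vz_of_cusp` : the same from a cuspidal character of `M_K`;
* `vz_of_not_fix` : `χ` without `V_{J'}`-fixed vectors for all `J'` with `|J'| = |J|`, `|V_{J'}| = |V_J|`.
-/

set_option autoImplicit false
set_option linter.unusedSectionVars false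

open scoped ComplexConjugate
open Cfsg

namespace Cfsg.Agent.H526.Van

open Cfsg.Agent.OddOrderCharacters.Clifford Cfsg.Agent.Characters
open CoxeterSystem Cfsg.Agent.ChevalleyStructure.CoxeterGeom Cfsg.Agent.Tits.Roots Cfsg.Agent.Tits.Core
  Cfsg.Agent.Tits.Exchange Cfsg.Agent.Nodes.Reps Cfsg.Agent.Nodes.BNOf Cfsg.Agent.Nodes.StabComb
  Cfsg.Agent.Nodes.Bruhat Cfsg.Agent.Nodes.OppDec Cfsg.Agent.Nodes.LeviDec Cfsg.Agent.H53.HC
  Cfsg.Agent.KFacts.RgdAut Cfsg.Agent.H246.Dl
open scoped Pointwise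

section abstract_

/-- **T1.** An irreducible character without nonzero `V`-fixed vectors vanishes at every element normalising `V` without
nontrivial fixed points on `V`. -/
theorem zero_of_not_hasFix {G : Type*} [Group G] {χ : G → ℂ} (hχ : IsIrrCharacter G χ) {V : Subgroup G} [Finite V]
    (h : ¬ HasFix χ V) {x : G} (hx : ∀ u, u ∈ V ↔ x * u * x⁻¹ ∈ V) (hreg : ∀ u ∈ V, x * u = u * x → u = 1) :
    χ x = 0 := by
  classical
  have : Fintype V := Fintype.ofFinite V
  refine H720.PV.zero_of_regular V hχ ?_ hx hreg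
  by_contra h0
  exact h (hasFix_iff.2 h0)

end abstract_

variable {I W Y : Type*} [Fintype I] [DecidableEq I] [Group W] [Group Y] {M : CoxeterMatrix I}
  {cs : CoxeterSystem M W} {A : I → I → ℤ} {h : IsCartan M A} {r : ℕ} {T : Subgroup Y} {n : I → Y}
  {X : (I → ℤ) → Subgroup Y}

/-! ### fixed points of torus elements -/

section cent

open Cfsg.Agent.Nodes.Unique Cfsg.Agent.Nodes.BNOf.RGD

theorem cent_fut [Finite W] (R : RGD cs h r T n X) (Q : Subgroup Y) (hQT : Q ≤ T) (w : W) {s : Set (I → ℤ)}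
    (hS : s ⊆ Fut cs h w) (hc : Closed cs h s)
    (hC : ∀ x ∈ s, ∀ u ∈ X x, (∀ q ∈ Q, q * u = u * q) → u = 1) :
    ∀ u ∈ Sup X s, (∀ q ∈ Q, q * u = u * q) → u = 1 := by
  classical
  induction hn : (Fut cs h w).ncard generalizing w s with
  | zero =>
    have h1 := (Set.ncard_eq_zero (finite_fut w)).1 hn
    rw [h1, Set.subset_empty_iff] at hS
    subst hS
    intro u hu _
    rw [Sup_empty] at hu
    exact Subgroup.mem_bot.1 hu
  | succ k ih =>
    have hne : (Fut cs h w).Nonempty := by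
      rw [Set.nonempty_iff_ne_empty]
      intro h1
      rw [h1, Set.ncard_empty] at hn
      omega
    obtain ⟨y, hy⟩ := hne
    obtain ⟨i, hi⟩ := exists_simple hy
    set x := rep cs h w (sr i) with hxdef
    have hcard : (Fut cs h (w * cs.simple i)).ncard = k := by
      rw [fut_mul hi, Set.ncard_sdiff_singleton_of_mem (mem_fut hi), hn]
      rfl
    have hsub : s \ {x} ⊆ Fut cs h (w * cs.simple i) := by
      rw [fut_mul hi]
      exact Set.sdiff_subset_sdiff_left hS
    have hcl := closed_diff hi hS hc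
    have ih' := ih (w * cs.simple i) hsub hcl (fun z hz => hC z hz.1) hcard
    by_cases hx : x ∈ s
    · intro g hg hq
      have hpos : s ⊆ Pos cs h := hS.trans (fut_subset_pos w)
      obtain ⟨a, ha, b, hb, rfl⟩ := (mem_peel R hpos hc hx).1 hg
      have hroot : IsRoot cs h x := (hpos hx).1
      have hca : ∀ q ∈ Q, q * a = a * q := by
        intro q hqQ
        have hqT := hQT hqQ
        have e1 : q * a * q⁻¹ ∈ X x := by
          rw [← R.tor x hroot q hqT]
          exact conj_mem_cj.2 ha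
        have e2 : q * b * q⁻¹ ∈ Sup X (s \ {x}) :=
          (Subgroup.mem_normalizer_iff.1 (R.T_le_normalizer (S := s \ {x}) (fun y hy => (hpos hy.1).1) hqT) b).1 hb
        have e3 : a⁻¹ * (q * a * q⁻¹) = b * (q * b * q⁻¹)⁻¹ := by
          have h3 := hq q hqQ
          have h4 : q * (a * b) * q⁻¹ = a * b := by rw [h3]; group
          calc a⁻¹ * (q * a * q⁻¹) = a⁻¹ * (q * (a * b) * q⁻¹) * (q * b * q⁻¹)⁻¹ := by group
            _ = b * (q * b * q⁻¹)⁻¹ := by rw [h4]; group
        have e4 : a⁻¹ * (q * a * q⁻¹) ∈ X x ⊓ Sup X (Fut cs h (w * cs.simple i)) := by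
          refine Subgroup.mem_inf.2 ⟨mul_mem (inv_mem ha) e1, ?_⟩
          rw [e3]
          exact Sup_mono hsub (mul_mem hb (inv_mem e2))
        rw [hxdef, tail_inf R, Subgroup.mem_bot] at e4
        have e5 : a = q * a * q⁻¹ := inv_mul_eq_one.1 e4
        calc q * a = (q * a * q⁻¹) * q := by group
          _ = a * q := by rw [← e5]
      have ha1 : a = 1 := hC x hx a ha hca
      subst ha1
      rw [one_mul] at hq ⊢
      exact ih' b hb hq
    · have hs : s \ {x} = s := Set.sdiff_singleton_eq_self hx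
      rw [hs] at ih'
      exact ih'

/-- Torus elements without fixed points on the root groups of a closed set of positive roots. -/
theorem cent_Sup [Finite W] (R : RGD cs h r T n X) (Q : Subgroup Y) (hQT : Q ≤ T) {s : Set (I → ℤ)}
    (hS : s ⊆ Pos cs h) (hc : Closed cs h s)
    (hC : ∀ x ∈ s, ∀ u ∈ X x, (∀ q ∈ Q, q * u = u * q) → u = 1) :
    ∀ u ∈ Sup X s, (∀ q ∈ Q, q * u = u * q) → u = 1 := by
  rw [← fut_one] at hS
  exact cent_fut R Q hQT 1 hS hc hC

/-- Torus elements without fixed points on the root groups of `V_J` have no fixed points on `V_J`. -/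
theorem cent_VJ [Finite W] (R : RGD cs h r T n X) {J : Set I} {t : Y} (ht : t ∈ T)
    (hC : ∀ x ∈ NotJ cs h J, ∀ u ∈ X x, t * u = u * t → u = 1) :
    ∀ u ∈ VJ cs h X J, t * u = u * t → u = 1 := by
  intro u hu hc
  have hQ : Subgroup.zpowers t ≤ T := by
    rw [Subgroup.zpowers_le]; exact ht
  refine cent_Sup R (Subgroup.zpowers t) hQ (s := NotJ cs h J) (fun x hx => ⟨hx.1, hx.2.1⟩)
    (H62.PPIdx.closed_NotJ J) ?_ u hu ?_
  · intro x hx v hv hcv
    exact hC x hx v hv (hcv t (Subgroup.mem_zpowers t))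
  · rintro q ⟨m, rfl⟩
    have h1 : Commute t u := hc
    exact (h1.zpow_left m)

end cent

/-! ### automorphisms -/

/-- if `w` maps the simple roots of `K` into those of `J`, and `|J| ≤ |K|`, then `|V_K| = |V_J|` -/
theorem card_VJ_of_maps [Finite W] [Finite Y] (R : RGD cs h r T n X) {K J : Set I} {w : W}
    (hw : ∀ i ∈ K, ∃ k ∈ J, rep cs h w (sr i) = sr k) (hc : J.ncard ≤ K.ncard) :
    Nat.card (VJ cs h X K) = Nat.card (VJ cs h X J) := by
  classical
  -- `w` is onto
  have hinj : ∀ i j : I, (sr i : I → ℤ) = sr j → i = j := by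
    intro i j e
    by_contra hne
    have h3 := congrFun e i
    rw [sr_self, sr_ne hne] at h3
    exact one_ne_zero h3
  have hsurj : ∀ k ∈ J, ∃ i ∈ K, rep cs h w⁻¹ (sr k) = sr i := by
    choose! f hf1 hf2 using hw
    have hf : Set.InjOn f K := by
      intro i hi j hj e
      have h1 : rep cs h w (sr i) = rep cs h w (sr j) := by rw [hf2 i hi, hf2 j hj, e]
      have h2 : (sr i : I → ℤ) = sr j := by
        have := congrArg (rep cs h w⁻¹) h1
        rwa [rep_inv_apply, rep_inv_apply] at this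
      exact hinj i j h2
    have him : f '' K = J := by
      refine Set.eq_of_subset_of_ncard_le ?_ ?_ (Set.toFinite J)
      · rintro _ ⟨i, hi, rfl⟩
        exact hf1 i hi
      · rw [hf.ncard_image]
        exact hc
    intro k hk
    rw [← him] at hk
    obtain ⟨i, hi, rfl⟩ := hk
    exact ⟨i, hi, by rw [← hf2 i hi, rep_inv_apply]⟩
  obtain ⟨g, hg⟩ := exists_rp cs R.nsys w
  have hU : ∀ (K J : Set I) (w : W) (g : Y), Rp cs R.nsys w g → (∀ i ∈ K, ∃ k ∈ J, rep cs h w (sr i) = sr k) →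
      Nat.card (UJ cs h X K) ≤ Nat.card (UJ cs h X J) := by
    intro K J w g hg hw
    refine card_le_of_cj (g := g) ?_
    refine cj_Sup_le R hg (fun x hx => hx.1) fun x hx => ?_
    refine ⟨hx.1.act _, ?_, fun k hk => rep_supp hw hx.2.2 k hk⟩
    refine rep_nonneg_of_supp (J := K) (fun i hi => ?_) hx.2.1 hx.2.2
    obtain ⟨k, -, e⟩ := hw i hi
    rw [e]
    exact sr_nonneg k
  have h1 := le_antisymm (hU K J w g hg hw) (hU J K w⁻¹ g⁻¹ hg.inv hsurj)
  have h2 := card_U (T := T) R K
  have h3 := card_U (T := T) R J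
  rw [h2, h1] at h3
  exact Nat.eq_of_mul_eq_mul_left (Nat.card_pos (α := UJ cs h X J)) h3

/-- **T1 with all automorphisms.** `χ` irreducible without `V_{J'}`-fixed vectors for all `J'` with `|J'| = |J|` and
`|V_{J'}| = |V_J|`; then the elements of `P_J` without fixed points on `V_J` are `VZ` elements. -/
theorem vz_of_not_fix [Finite W] [Finite Y] [Fact r.Prime] (R : RGD cs h r T n X) (hG : GG cs h T X = ⊤) {χ : Y → ℂ}
    (hχ : IsIrrCharacter Y χ) {J : Set I}
    (hJ : ∀ J' : Set I, J'.ncard = J.ncard → Nat.card (VJ cs h X J') = Nat.card (VJ cs h X J) →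
      Nat.card (PJ cs h T X J') = Nat.card (PJ cs h T X J) → ¬ HasFix χ (VJ cs h X J'))
    {x : Y} (hx : x ∈ PJ cs h T X J) (hreg : ∀ v ∈ VJ cs h X J, x * v = v * x → v = 1) : H713.VZ Y x := by
  classical
  refine ⟨⟨χ, hχ⟩, fun σ => ?_⟩
  change χ (σ x) = 0
  obtain ⟨g, hg⟩ := exists_fixU R hG σ
  have hB := fix_B R hG hg
  set α : MulAut Y := MulAut.conj g * σ with hα
  set J' := nodes cs h T n X α J with hJ'
  have hP := PJ_nodes R hG hB J
  have hV := map_VJ R hg hP
  have hcP : Nat.card (PJ cs h T X J') = Nat.card (PJ cs h T X J) := by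
    rw [hJ', ← hP]
    exact (Nat.card_congr ((PJ cs h T X J).equivMapOfInjective _ (MulEquiv.injective _)).toEquiv).symm
  have hcV : Nat.card (VJ cs h X J') = Nat.card (VJ cs h X J) := by
    rw [hJ', ← hV]
    exact (Nat.card_congr ((VJ cs h X J).equivMapOfInjective _ (MulEquiv.injective _)).toEquiv).symm
  have hcJ : J'.ncard = J.ncard := by
    apply le_antisymm
    · have h1 := ncard_le_nodes R hG hB.inv J'
      rwa [hJ', nodes_inv R hG hB] at h1
    · exact ncard_le_nodes R hG hB J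
  -- the value at `σ x` is the value at `α x`
  have hcl : χ (σ x) = χ (α x) := by
    have := Core.isIrr_isClassFunction hχ (σ x) g
    rw [← this, hα]
    rfl
  rw [hcl]
  have hxP : α x ∈ PJ cs h T X J' := by
    rw [hJ', ← hP]
    exact ⟨x, hx, rfl⟩
  refine zero_of_not_hasFix hχ (hJ J' hcJ hcV hcP) (fun u => ?_) fun u hu hc => ?_
  · exact Subgroup.mem_normalizer_iff.1 (PJ_le_normalizer_VJ R J' hxP) u
  · rw [hJ', ← hV] at hu
    obtain ⟨v, hv, rfl⟩ := hu
    have h1 : α (x * v) = α (v * x) := by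
      rw [map_mul, map_mul]
      exact hc
    have h2 := hreg v hv (α.injective h1)
    rw [h2]
    exact map_one _

/-- **T1 from a Harish-Chandra type.** -/
theorem vz_of_HT [Finite W] [Finite Y] [Fact r.Prime] (R : RGD cs h r T n X) (hG : GG cs h T X = ⊤) {χ : Y → ℂ}
    {K J : Set I} (hχ : HT cs h X χ K)
    (hKJ : J.ncard < K.ncard ∨ (J.ncard = K.ncard ∧ Nat.card (VJ cs h X J) ≠ Nat.card (VJ cs h X K)))
    {x : Y} (hx : x ∈ PJ cs h T X J) (hreg : ∀ v ∈ VJ cs h X J, x * v = v * x → v = 1) : H713.VZ Y x := by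
  refine vz_of_not_fix R hG hχ.irr (fun J' h1 h2 _ hfix => ?_) hx hreg
  obtain ⟨w, hw⟩ := hχ.le J' hfix
  have h4 := (card_le_of_maps R hw).2
  rcases hKJ with h5 | ⟨h5, h6⟩
  · omega
  · apply h6
    rw [← h2]
    exact (card_VJ_of_maps R hw (by omega)).symm

/-- **T1 from a cuspidal character of `M_K`.** -/
theorem vz_of_cusp [Finite W] [Finite Y] [Fact r.Prime] (R : RGD cs h r T n X) (hG : GG cs h T X = ⊤)
    {K J : Set I} (hK : ∃ θ, H53.HC.Cusp cs h X K θ)
    (hKJ : J.ncard < K.ncard ∨ (J.ncard = K.ncard ∧ Nat.card (VJ cs h X J) ≠ Nat.card (VJ cs h X K)))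
    {x : Y} (hx : x ∈ PJ cs h T X J) (hreg : ∀ v ∈ VJ cs h X J, x * v = v * x → v = 1) : H713.VZ Y x := by
  obtain ⟨θ, hθ⟩ := hK
  obtain ⟨χ, hχ⟩ := exists_HT R hG K hθ.irr fun j hj => hθ.van j hj
  exact vz_of_HT R hG hχ hKJ hx hreg

/-- **T1 for torus elements**, from a cuspidal character of `M_K`. -/
theorem vz_of_torus [Finite W] [Finite Y] [Fact r.Prime] (R : RGD cs h r T n X) (hG : GG cs h T X = ⊤)
    {K J : Set I} (hK : ∃ θ, H53.HC.Cusp cs h X K θ)
    (hKJ : J.ncard < K.ncard ∨ (J.ncard = K.ncard ∧ Nat.card (VJ cs h X J) ≠ Nat.card (VJ cs h X K)))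
    {t : Y} (ht : t ∈ T) (hreg : ∀ x ∈ NotJ cs h J, ∀ u ∈ X x, t * u = u * t → u = 1) : H713.VZ Y t :=
  vz_of_cusp R hG hK hKJ (LJ_le_PJ (T_le_LJ ht)) (cent_VJ R ht hreg)

end Cfsg.Agent.H526.Van
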